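import Mathlib
import Cfsg.Prelude.Def_Classical

/-!
# Real elements of order three in `PSL₂(q)` and `PSU₃(2^n)`

* `sl_real`: `x = [0,-1;1,-1]`, `y = [a,c-a;c,-a]` with `a² - a c + c² = -1`: `x³ = 1`, `y x y⁻¹ = x⁻¹`.
* `exists_norm`: the equation is solvable unless `q` is an odd power of `3`.
* `psl_real`, `psu_real`: nontrivial elements of order three inverted by an element.
* `exists_real_of_act`: an element `t` with `t² = 1` acting nontrivially on a subgroup inverts a nontrivial element of it.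
-/

set_option autoImplicit false

namespace Cfsg.Agent.H502.RealThree

open Matrix Subgroup

section SL

variable {F : Type*} [Field F]

/-- The element of order three. -/
def xx (F : Type*) [Field F] : SpecialLinearGroup (Fin 2) F :=
  ⟨!![0, -1; 1, -1], by simp [det_fin_two]⟩

/-- The inverting element. -/
def yy (a c : F) (h : a * a - a * c + c * c = -1) : SpecialLinearGroup (Fin 2) F :=
  ⟨!![a, c - a; c, -a], by
    rw [det_fin_two]
    simp only [of_apply, cons_val', cons_val_zero, cons_val_one, cons_val_fin_one]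
    linear_combination -h⟩

theorem coe_xx : (xx F : Matrix (Fin 2) (Fin 2) F) = !![0, -1; 1, -1] := rfl

theorem coe_yy (a c : F) (h : a * a - a * c + c * c = -1) :
    (yy a c h : Matrix (Fin 2) (Fin 2) F) = !![a, c - a; c, -a] := rfl

theorem xx_pow : (xx F) ^ 3 = 1 := by
  rw [pow_succ, pow_two]
  apply Matrix.SpecialLinearGroup.ext
  intro i j
  rw [Matrix.SpecialLinearGroup.coe_mul, Matrix.SpecialLinearGroup.coe_mul, coe_xx, Matrix.SpecialLinearGroup.coe_one]
  fin_cases i <;> fin_cases j <;> simp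

theorem yy_mul_xx (a c : F) (h : a * a - a * c + c * c = -1) :
    yy a c h * xx F * (yy a c h)⁻¹ = (xx F)⁻¹ := by
  rw [mul_inv_eq_iff_eq_mul, eq_inv_mul_iff_mul_eq]
  apply Matrix.SpecialLinearGroup.ext
  intro i j
  rw [Matrix.SpecialLinearGroup.coe_mul, Matrix.SpecialLinearGroup.coe_mul, coe_xx, coe_yy]
  fin_cases i <;> fin_cases j <;> simp <;> ring

theorem xx_not_mem_center : xx F ∉ center (SpecialLinearGroup (Fin 2) F) := by
  intro h
  let u : SpecialLinearGroup (Fin 2) F := ⟨!![1, 1; 0, 1], by simp [det_fin_two]⟩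
  have hu : (u : Matrix (Fin 2) (Fin 2) F) = !![1, 1; 0, 1] := rfl
  have h1 := Subgroup.mem_center_iff.mp h u
  have h2 := congrArg (fun M : SpecialLinearGroup (Fin 2) F => (M : Matrix (Fin 2) (Fin 2) F) 0 0) h1
  simp only [Matrix.SpecialLinearGroup.coe_mul, coe_xx, hu] at h2
  simp at h2

/-- `a² - a c + c² = -1` is solvable in a finite field unless its order is an odd power of three. -/
theorem exists_norm (F : Type*) [Field F] [Fintype F]
    (h : (3 : F) ≠ 0 ∨ IsSquare (-1 : F)) : ∃ a c : F, a * a - a * c + c * c = -1 := by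
  classical
  rcases h with h3 | ⟨r, hr⟩
  · by_cases h2 : (2 : F) = 0
    · refine ⟨1, 0, ?_⟩
      have : (1 : F) = -1 := by
        rw [eq_neg_iff_add_eq_zero, one_add_one_eq_two]; exact h2
      simpa using this
    · have hodd : Fintype.card F % 2 = 1 := by
        apply FiniteField.odd_card_of_char_ne_two
        intro hc
        apply h2
        have := ringChar.spec F 2
        rw [hc] at this
        exact_mod_cast this.mpr dvd_rfl
      obtain ⟨u, v, huv⟩ := FiniteField.exists_root_sum_quadratic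
        (f := (Polynomial.X ^ 2 : Polynomial F))
        (g := (Polynomial.C (3 / 4 : F) * Polynomial.X ^ 2 + Polynomial.C 1 : Polynomial F))
        (by simp)
        (by
          have h4 : (3 / 4 : F) ≠ 0 := by
            have : (4 : F) ≠ 0 := by
              have : (4 : F) = 2 * 2 := by norm_num
              rw [this]; exact mul_ne_zero h2 h2
            exact div_ne_zero h3 this
          rw [Polynomial.degree_add_C, Polynomial.degree_C_mul_X_pow 2 h4]
          · rfl
          · rw [Polynomial.degree_C_mul_X_pow 2 h4]; norm_num) hodd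
      simp only [Polynomial.eval_pow, Polynomial.eval_X, Polynomial.eval_add, Polynomial.eval_mul,
        Polynomial.eval_C] at huv
      refine ⟨u + v / 2, v, ?_⟩
      have h4 : (2 : F) * (v / 2) = v := by field_simp
      have h5 : (4 : F) ≠ 0 := by
        have : (4 : F) = 2 * 2 := by norm_num
        rw [this]; exact mul_ne_zero h2 h2
      field_simp at huv ⊢
      linear_combination huv
  · by_cases h3 : (3 : F) = 0
    · refine ⟨r, 0, ?_⟩
      simp only [mul_zero, sub_zero, add_zero]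
      exact hr.symm
    · refine ⟨r, 0, ?_⟩
      simp only [mul_zero, sub_zero, add_zero]
      exact hr.symm

/-- `PSL₂(F)` has a real element of order three. -/
theorem psl_real (F : Type*) [Field F] [Fintype F] (h : (3 : F) ≠ 0 ∨ IsSquare (-1 : F)) :
    ∃ x y : ProjectiveSpecialLinearGroup (Fin 2) F, x ≠ 1 ∧ x ^ 3 = 1 ∧ y * x * y⁻¹ = x⁻¹ := by
  obtain ⟨a, c, hac⟩ := exists_norm F h
  refine ⟨QuotientGroup.mk (xx F), QuotientGroup.mk (yy a c hac), ?_, ?_, ?_⟩
  · rw [Ne, QuotientGroup.eq_one_iff]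
    exact xx_not_mem_center
  · rw [← QuotientGroup.mk_pow, xx_pow]; rfl
  · rw [← QuotientGroup.mk_mul, ← QuotientGroup.mk_inv, ← QuotientGroup.mk_mul, yy_mul_xx]; rfl

end SL

section SU

variable {F : Type*} [Field F]

/-- A permutation matrix in characteristic two, as an element of `SL₃`. -/
def perm3 (h2 : (2 : F) = 0) (σ : Equiv.Perm (Fin 3)) : SpecialLinearGroup (Fin 3) F :=
  ⟨σ.permMatrix F, by
    rw [det_permutation]
    have h1 : (-1 : F) = 1 := by
      rw [neg_eq_iff_add_eq_zero, one_add_one_eq_two]; exact h2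
    rcases Int.units_eq_one_or (Equiv.Perm.sign σ) with h | h <;> rw [h] <;> simp [h1]⟩

theorem perm3_mem (h2 : (2 : F) = 0) (σ : Equiv.Perm (Fin 3)) (q : ℕ) :
    perm3 h2 σ ∈ Cfsg.SU 3 F q := by
  intro u v
  change Cfsg.hermForm 3 F q ((σ.permMatrix F) *ᵥ u) ((σ.permMatrix F) *ᵥ v) = _
  rw [Matrix.permMatrix_mulVec, Matrix.permMatrix_mulVec]
  unfold Cfsg.hermForm
  exact Equiv.sum_comp σ (fun i => u i * v i ^ q)

theorem perm3_mul (h2 : (2 : F) = 0) (σ τ : Equiv.Perm (Fin 3)) :
    perm3 h2 (σ * τ) = perm3 h2 τ * perm3 h2 σ := by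
  apply Matrix.SpecialLinearGroup.ext
  intro i j
  rw [Matrix.SpecialLinearGroup.coe_mul]
  change (σ * τ).permMatrix F i j = ((τ.permMatrix F) * (σ.permMatrix F)) i j
  rw [Matrix.permMatrix_mul]

theorem perm3_one (h2 : (2 : F) = 0) : perm3 h2 (1 : Equiv.Perm (Fin 3)) = 1 := by
  apply Matrix.SpecialLinearGroup.ext
  intro i j
  change (1 : Equiv.Perm (Fin 3)).permMatrix F i j = _
  rw [Matrix.permMatrix_one]
  rfl

/-- `PSU₃(q)`, `q` even, has a real element of order three. -/
theorem psu_real (h2 : (2 : F) = 0) (q : ℕ) :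
    ∃ x y : Cfsg.PSU 3 F q, x ≠ 1 ∧ x ^ 3 = 1 ∧ y * x * y⁻¹ = x⁻¹ := by
  let σ : Equiv.Perm (Fin 3) := finRotate 3
  let τ : Equiv.Perm (Fin 3) := Equiv.swap 0 1
  let x : Cfsg.SU 3 F q := ⟨perm3 h2 σ, perm3_mem h2 σ q⟩
  let y : Cfsg.SU 3 F q := ⟨perm3 h2 τ, perm3_mem h2 τ q⟩
  have hx3 : x ^ 3 = 1 := by
    apply Subtype.ext
    change (perm3 h2 σ) ^ 3 = 1
    rw [pow_succ, pow_two, ← perm3_mul, ← perm3_mul, ← perm3_one h2]
    congr 1
    decide
  have hyx : y * x * y⁻¹ = x⁻¹ := by
    rw [mul_inv_eq_iff_eq_mul, eq_inv_mul_iff_mul_eq]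
    apply Subtype.ext
    change perm3 h2 σ * (perm3 h2 τ * perm3 h2 σ) = perm3 h2 τ
    rw [← perm3_mul, ← perm3_mul]
    congr 1
    decide
  refine ⟨QuotientGroup.mk x, QuotientGroup.mk y, ?_, ?_, ?_⟩
  · rw [Ne, QuotientGroup.eq_one_iff]
    intro h
    have h1 := congrArg Subtype.val (Subgroup.mem_center_iff.mp h y)
    change perm3 h2 τ * perm3 h2 σ = perm3 h2 σ * perm3 h2 τ at h1
    rw [← perm3_mul, ← perm3_mul] at h1
    have h3 := congrArg (fun M : SpecialLinearGroup (Fin 3) F => (M : Matrix (Fin 3) (Fin 3) F) 0 0) h1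
    change (σ * τ).permMatrix F 0 0 = (τ * σ).permMatrix F 0 0 at h3
    simp only [Equiv.Perm.permMatrix, Equiv.toPEquiv_apply, PEquiv.toMatrix_apply, Option.mem_some_iff] at h3
    have h4 : (σ * τ) 0 = 2 := by decide
    have h5 : (τ * σ) 0 = 0 := by decide
    rw [h4, h5] at h3
    simp at h3
  · rw [← QuotientGroup.mk_pow, hx3]; rfl
  · rw [← QuotientGroup.mk_mul, ← QuotientGroup.mk_inv, ← QuotientGroup.mk_mul, hyx]; rfl

end SU

/-- An element `t` with `t² = 1` normalising but not centralising the subgroup `Q` inverts a nontrivial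
element of `Q`. -/
theorem exists_real_of_act {G : Type*} [Group G] {t : G} (ht : t * t = 1) {Q : Subgroup G}
    (hn : ∀ q ∈ Q, t * q * t⁻¹ ∈ Q) (hc : ∃ q ∈ Q, t * q ≠ q * t) :
    ∃ x ∈ Q, x ≠ 1 ∧ t * x * t⁻¹ = x⁻¹ := by
  obtain ⟨q, hq, hqt⟩ := hc
  have hti : t⁻¹ = t := inv_eq_of_mul_eq_one_right ht
  refine ⟨q⁻¹ * (t * q * t⁻¹), mul_mem (inv_mem hq) (hn q hq), ?_, ?_⟩
  · intro h
    apply hqt
    rw [inv_mul_eq_one, eq_mul_inv_iff_mul_eq] at h
    exact h.symm
  · rw [hti]
    have h1 : t * (q⁻¹ * (t * q * t)) * t = (t * q⁻¹ * t) * q * (t * t) := by group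
    rw [h1, ht, mul_one, _root_.mul_inv_rev, _root_.mul_inv_rev, _root_.mul_inv_rev, hti, inv_inv]
    group

end Cfsg.Agent.H502.RealThree
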