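import Mathlib
import Cfsg.Prelude.Def_Exceptional
import Cfsg.Agent.H502.RealThree
import Cfsg.Agent.Walter.Main
import Cfsg.Agent.Ree.Ward
import Cfsg.Agent.SmallSimple.SylowEight
import Cfsg.Agent.LieClassical.SmallIso

/-!
# Real elements of order three in the Goldschmidt groups

* `of_pow`: a real element of `3`-power order gives a real element of order three.
* `of_jr`: groups of Janko-Ree type have a real element of order three.
* `of_wType`: a simple group with abelian Sylow 2-subgroups has a real element of order three or is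
  `PSL₂(3^(2f+1))`, `f ≥ 1`.
-/

set_option autoImplicit false

namespace Cfsg.Agent.H502.RealThree

open Subgroup Cfsg
open Cfsg.Agent.Walter.Types Cfsg.Agent.Walter.Main

universe u

/-- There is a real element of order three. -/
def HasReal (G : Type*) [Group G] : Prop := ∃ x y : G, orderOf x = 3 ∧ y * x * y⁻¹ = x⁻¹

theorem HasReal.map {G H : Type*} [Group G] [Group H] (f : G →* H) (hf : Function.Injective f)
    (h : HasReal G) : HasReal H := by
  obtain ⟨x, y, h1, h2⟩ := h
  refine ⟨f x, f y, by rw [orderOf_injective f hf, h1], ?_⟩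
  rw [← map_inv, ← map_mul, ← map_mul, h2, map_inv]

/-- A nontrivial real element of order a power of three gives one of order three. -/
theorem of_pow {G : Type*} [Group G] {x y : G} (hx : x ≠ 1) {k : ℕ} (hk : x ^ 3 ^ k = 1)
    (h : y * x * y⁻¹ = x⁻¹) : HasReal G := by
  obtain ⟨j, -, hj⟩ := (Nat.dvd_prime_pow Nat.prime_three).mp (orderOf_dvd_of_pow_eq_one hk)
  have hj0 : j ≠ 0 := by
    rintro rfl
    rw [pow_zero, orderOf_eq_one_iff] at hj
    exact hx hj
  refine ⟨x ^ 3 ^ (j - 1), y, ?_, ?_⟩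
  · rw [orderOf_pow_of_dvd (by positivity) (by rw [hj]; exact pow_dvd_pow 3 (Nat.sub_le j 1)), hj]
    have h1 : 3 ^ j = 3 ^ (j - 1) * 3 := by
      rw [← pow_succ, Nat.sub_add_cancel (Nat.one_le_iff_ne_zero.mpr hj0)]
    rw [h1, Nat.mul_div_cancel_left _ (by positivity)]
  · rw [← conj_pow, h, inv_pow]

theorem of_three {G : Type*} [Group G] (h : ∃ x y : G, x ≠ 1 ∧ x ^ 3 = 1 ∧ y * x * y⁻¹ = x⁻¹) :
    HasReal G := by
  obtain ⟨x, y, h1, h2, h3⟩ := h
  exact of_pow h1 (k := 1) (by rw [pow_one, h2]) h3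

/-- An odd power of three. -/
theorem odd_pow_of {F : Type*} [Field F] [Fintype F] (h : ¬ ((3 : F) ≠ 0 ∨ IsSquare (-1 : F))) :
    ∃ f : ℕ, Fintype.card F = 3 ^ (2 * f + 1) := by
  push Not at h
  obtain ⟨h3, hsq⟩ := h
  obtain ⟨p, hp⟩ := CharP.exists F
  obtain ⟨m, hpp, hm⟩ := FiniteField.card F p
  have hp3 : p = 3 := by
    have : p ∣ 3 := (CharP.cast_eq_zero_iff F p 3).mp (by exact_mod_cast h3)
    exact (Nat.prime_dvd_prime_iff_eq hpp Nat.prime_three).mp this
  subst hp3
  have h4 : Fintype.card F % 4 = 3 := by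
    by_contra hcon
    exact hsq (FiniteField.isSquare_neg_one_iff.mpr hcon)
  rcases Nat.even_or_odd' (m : ℕ) with ⟨j, hj | hj⟩
  · exfalso
    rw [hm, hj, pow_mul] at h4
    have : (3 ^ 2) ^ j % 4 = 1 := by
      rw [Nat.pow_mod]; norm_num
    omega
  · exact ⟨j, by rw [hm, hj]⟩

/-- Groups of Janko-Ree type have a real element of order three. -/
theorem of_jr (hC : CentThm.{u}) {G : Type u} [Group G] [Finite G] [IsSimpleGroup G]
    (hna : ¬ IsMulCommutative G) (h : IsJR G) : HasReal G := by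
  have h2 : Fact (Nat.Prime 2) := ⟨Nat.prime_two⟩
  obtain ⟨S⟩ : Nonempty (Sylow 2 G) := inferInstance
  obtain ⟨⟨S₀, hS₀, hS₀2⟩, F, i1, i2, hmod, hq, hc⟩ := h
  have hsyl : ∀ P : Sylow 2 G, Nat.card P = 8 ∧ ∀ x ∈ P, x * x = 1 := by
    intro P
    let e := P.equiv S₀
    refine ⟨by rw [Nat.card_congr e.toEquiv]; exact hS₀, fun x hx => ?_⟩
    have h3 := hS₀2 _ (e ⟨x, hx⟩).2
    have h4 : e ⟨x, hx⟩ * e ⟨x, hx⟩ = 1 := Subtype.ext h3
    rw [← map_mul, ← map_one e] at h4
    exact congrArg Subtype.val (e.injective h4)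
  have hab : ∀ P : Sylow 2 G, ∀ a b : P, a * b = b * a := by
    intro P a b
    have h3 := (hsyl P).2 _ (mul_mem a.2 b.2)
    have ha := (hsyl P).2 _ a.2
    have hb := (hsyl P).2 _ b.2
    apply Subtype.ext
    calc (a : G) * b = ((a : G) * b)⁻¹ := (inv_eq_of_mul_eq_one_right h3).symm
      _ = (b : G)⁻¹ * (a : G)⁻¹ := mul_inv_rev _ _
      _ = b * a := by rw [inv_eq_of_mul_eq_one_right ha, inv_eq_of_mul_eq_one_right hb]
  have h8 : Nat.card (S : Subgroup G) = 8 := (hsyl S).1
  have h8d : 8 ∣ Nat.card G := h8 ▸ (S : Subgroup G).card_subgroup_dvd_card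
  have h16 : ¬ 16 ∣ Nat.card G := by
    intro h
    have h3 := (S : Subgroup G).card_mul_index
    rw [h8] at h3
    have h4 := S.not_dvd_index
    apply h4
    obtain ⟨k, hk⟩ := h
    rw [hk] at h3
    exact ⟨k, by omega⟩
  have hconj := Cfsg.Agent.SmallSimple.SylowEight.isConj_of_card_sylow_eight hna h8d h16
  obtain ⟨t, ht⟩ : ∃ t : G, orderOf t = 2 := by
    apply exists_prime_orderOf_dvd_card'
    omega
  by_cases hF3 : (3 : F) ≠ 0 ∨ IsSquare (-1 : F)
  · obtain ⟨e⟩ := hc t ht
    have h3 : HasReal (Matrix.ProjectiveSpecialLinearGroup (Fin 2) F) := of_three (psl_real F hF3)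
    have h4 : HasReal (Multiplicative (ZMod 2) × Matrix.ProjectiveSpecialLinearGroup (Fin 2) F) :=
      h3.map (MonoidHom.inr _ _) (fun a b hab => (Prod.mk.inj hab).2)
    exact (h4.map e.symm.toMonoidHom e.symm.injective).map _ (Subgroup.subtype_injective _)
  · obtain ⟨f, hf⟩ := odd_pow_of hF3
    rcases hC G hab F (by omega) t ht (hc t ht) with ⟨m, hm, hF, hcard⟩ | ⟨h45, -⟩
    · have hodd : Odd (2 * m + 1) := ⟨m, rfl⟩
      obtain ⟨w, L, E, T, hS⟩ := Cfsg.Agent.Ree.Ward.exists_setup hodd hF ht (hc t ht) hconj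
        (fun P => (hsyl P).2) hcard
      obtain ⟨U, hU1, hU2, hU3, hU4⟩ := hS.exists_U
      have htt : t * t = 1 := by rw [← pow_two, ← ht, pow_orderOf_eq_one]
      have htU : t ∈ normalizer (U : Set G) := hU3 hS.t_mem_torus
      have hE : Nat.card E < Nat.card U := by
        rw [hS.card_E, hU4]
        have h3 : 1 < 3 ^ (2 * m + 1) := Nat.one_lt_pow (by omega) (by norm_num)
        exact lt_self_pow₀ h3 (by norm_num)
      obtain ⟨x, hxU, hx1, hx2⟩ := exists_real_of_act htt (Q := U)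
        (fun q hq => (mem_normalizer_iff.mp htU q).mp hq) (by
          by_contra hcon
          push Not at hcon
          have h5 : U ≤ E := fun q hq => hS.fixed_E hU1 hU2 hq (hcon q hq)
          exact absurd (Subgroup.card_le_of_le h5) (not_le.mpr hE))
      obtain ⟨k, hk⟩ := hU1 ⟨x, hxU⟩
      exact of_pow hx1 (k := k) (by simpa using congrArg Subtype.val hk) hx2
    · exfalso
      rw [hf] at h45
      have h5 : Odd (3 ^ (2 * f + 1)) := Odd.pow (by decide)
      rcases h45 with h | h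
      · rw [h] at h5
        exact absurd h5 (by decide)
      · have h6 : 3 ∣ 5 := by rw [← h]; exact dvd_pow_self 3 (by omega)
        norm_num at h6

/-- `PSL₂(F)`. -/
theorem of_psl {G : Type*} [Group G] {F : Type} [Field F] [Fintype F] (h5 : 4 ≤ Fintype.card F)
    (e : G ≃* Matrix.ProjectiveSpecialLinearGroup (Fin 2) F) :
    HasReal G ∨ ∃ f : ℕ, 1 ≤ f ∧
      Nonempty (G ≃* Matrix.ProjectiveSpecialLinearGroup (Fin 2) (GaloisField 3 (2 * f + 1))) := by
  have : Fact (Nat.Prime 3) := ⟨Nat.prime_three⟩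
  by_cases hF3 : (3 : F) ≠ 0 ∨ IsSquare (-1 : F)
  · exact Or.inl ((of_three (psl_real F hF3)).map e.symm.toMonoidHom e.symm.injective)
  · obtain ⟨f, hf⟩ := odd_pow_of hF3
    right
    refine ⟨f, ?_, ?_⟩
    · rcases Nat.eq_zero_or_pos f with rfl | h
      · rw [hf] at h5; norm_num at h5
      · exact h
    · have hfin : Finite (GaloisField 3 (2 * f + 1)) := by
        apply Nat.finite_of_card_ne_zero
        rw [GaloisField.card 3 (2 * f + 1) (by omega)]
        positivity
      have : Fintype (GaloisField 3 (2 * f + 1)) := Fintype.ofFinite _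
      have hc : Fintype.card F = Fintype.card (GaloisField 3 (2 * f + 1)) := by
        rw [hf, ← Nat.card_eq_fintype_card (α := GaloisField 3 (2 * f + 1)),
          GaloisField.card 3 (2 * f + 1) (by omega)]
      exact ⟨e.trans (Cfsg.Agent.LieClassical.SmallIso.pslCongr (Fin 2)
        (FiniteField.ringEquivOfCardEq hc))⟩

/-- Simple groups with abelian Sylow 2-subgroups. -/
theorem of_wType (hC : CentThm.{u}) {G : Type u} [Group G] [Finite G] [IsSimpleGroup G]
    (hna : ¬ IsMulCommutative G) (h : WType G) :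
    HasReal G ∨ ∃ f : ℕ, 1 ≤ f ∧
      Nonempty (G ≃* Matrix.ProjectiveSpecialLinearGroup (Fin 2) (GaloisField 3 (2 * f + 1))) := by
  rcases h with ⟨F, i1, i2, n, hn, hF, ⟨e⟩⟩ | ⟨F, i1, i2, hF, h5, ⟨e⟩⟩ | h
  · refine of_psl ?_ e
    rw [hF]
    calc 4 = 2 ^ 2 := by norm_num
      _ ≤ 2 ^ n := Nat.pow_le_pow_right (by norm_num) hn
  · exact of_psl (by omega) e
  · exact Or.inl (of_jr hC hna h)

/-- Simple groups with a strongly embedded subgroup (from the conclusion of Bender's theorem). -/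
theorem of_bender {G : Type*} [Group G]
    (h : (∃ (F : Type) (_ : Field F) (_ : Fintype F), CharP F 2 ∧ 4 ≤ Fintype.card F ∧
        Nonempty (G ≃* Matrix.ProjectiveSpecialLinearGroup (Fin 2) F)) ∨
      Cfsg.IsSuzuki G ∨
      (∃ (F : Type) (_ : Field F) (_ : Fintype F) (q : ℕ), Fintype.card F = q ^ 2 ∧ Even q ∧ 4 ≤ q ∧
        Nonempty (G ≃* Cfsg.PSU 3 F q))) :
    HasReal G ∨ Cfsg.IsSuzuki G ∨ ∃ f : ℕ, 1 ≤ f ∧
      Nonempty (G ≃* Matrix.ProjectiveSpecialLinearGroup (Fin 2) (GaloisField 3 (2 * f + 1))) := by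
  rcases h with ⟨F, i1, i2, -, h4, ⟨e⟩⟩ | h | ⟨F, i1, i2, q, hF, hq, -, ⟨e⟩⟩
  · rcases of_psl h4 e with h | h
    · exact Or.inl h
    · exact Or.inr (Or.inr h)
  · exact Or.inr (Or.inl h)
  · left
    have h2 : (2 : F) = 0 := by
      have h3 : ((Fintype.card F : ℕ) : F) = 0 := Nat.cast_card_eq_zero F
      rw [hF] at h3
      obtain ⟨r, rfl⟩ := hq
      rw [← two_mul] at h3
      push_cast at h3
      have h5 := pow_eq_zero_iff (two_ne_zero) |>.mp h3
      rcases mul_eq_zero.mp h5 with h6 | h6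
      · exact h6
      · -- `2` divides the characteristic
        obtain ⟨p, hp⟩ := CharP.exists F
        obtain ⟨m, hpp, hm⟩ := FiniteField.card F p
        have h7 : 2 ∣ p ^ (m : ℕ) := by
          rw [← hm, hF]
          exact (Dvd.intro _ (two_mul r)).trans (dvd_pow_self _ two_ne_zero)
        have hp2 : p = 2 := ((Nat.prime_dvd_prime_iff_eq Nat.prime_two hpp).mp
          (Nat.prime_two.dvd_of_dvd_pow h7)).symm
        subst hp2
        exact_mod_cast CharP.cast_eq_zero F 2
    exact (of_three (psu_real h2 q)).map e.symm.toMonoidHom e.symm.injective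

end Cfsg.Agent.H502.RealThree
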