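import Mathlib
import Cfsg.Agent.TwoFusion.S4FreeFunctor
import Cfsg.Agent.Lib.Involves
import Cfsg.Agent.H502.RealThreeList
import Cfsg.Agent.LFourB.RelExt

/-!
# Sections isomorphic to `S₄`: strongly closed abelian 2-subgroups and real elements of order three

* `exists_stronglyClosed`: a group not involving `S₄` has a nontrivial abelian subgroup strongly closed in a
  Sylow 2-subgroup.
* `hasReal_of_involves`: a group involving `S₄` has a real element of order three.
-/

set_option autoImplicit false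

namespace Cfsg.Agent.H502.SFourClosed

open Subgroup
open Cfsg.Agent.TwoFusion.S4FreeFunctor
open Cfsg.Agent.Lib.Involves (Involves)
open Cfsg.Agent.H502.RealThree

universe u

theorem s4Free_of_not_involves {G : Type u} [Group G] (h : ¬ Involves G (Equiv.Perm (Fin 4))) :
    S4Free G := by
  rintro ⟨K, R, hR, ⟨e⟩⟩
  exact h ⟨K, e.toMonoidHom.comp (QuotientGroup.mk' (R.subgroupOf K)),
    e.surjective.comp (QuotientGroup.mk'_surjective _)⟩

/-- In a group not involving `S₄` the normalizer of `W(S)` controls the fusion of elements of `S`. -/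
theorem exists_conj {G : Type u} [Group G] [Finite G] (h4 : ¬ Involves G (Equiv.Perm (Fin 4)))
    (S : Sylow 2 G) (x : G) (hx : x ∈ (S : Subgroup G)) (g : G)
    (hg : g * x * g⁻¹ ∈ (S : Subgroup G)) :
    ∃ m ∈ Subgroup.normalizer (Wf (S : Subgroup G) : Set G), m * x * m⁻¹ = g * x * g⁻¹ := by
  have hWf : Cfsg.Agent.Transfer.FusionFunctor.IsSectionFunctor 2
      (fun (G : Type u) [Group G] (P : Subgroup G) => Wf P) :=
    ⟨fun G _ P => Wf_le P, fun G H _ _ _ _ f P _ hf => Wf_map f P hf,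
      fun G _ _ P hp hP => Wf_ne_bot P hP hp⟩
  have key := Cfsg.Agent.Transfer.FusionFunctor.controls_fusion hWf
    (fun G _ => ¬ Involves G (Equiv.Perm (Fin 4)))
    (fun G _ _ H h h' => h (Cfsg.Agent.Lib.Involves.of_subgroup h'))
    (fun G _ _ N _ h h' => h (Cfsg.Agent.Lib.Involves.of_quotient h'))
    (fun G _ _ h hC P => Wf_normal (s4Free_of_not_involves h) hC P)
    G h4 S (Subgroup.zpowers x) (by rwa [Subgroup.zpowers_le]) g (by
      rintro _ ⟨k, rfl⟩
      have : g * x ^ k * g⁻¹ = (g * x * g⁻¹) ^ k := by rw [conj_zpow]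
      simp only [this]
      exact Subgroup.zpow_mem _ hg k)
  obtain ⟨m, hm, hm2⟩ := key
  exact ⟨m, hm, hm2 x (Subgroup.mem_zpowers x)⟩

/-- A group of even order not involving `S₄` has a nontrivial abelian subgroup strongly closed in a Sylow
2-subgroup. -/
theorem exists_stronglyClosed {G : Type u} [Group G] [Finite G]
    (h4 : ¬ Involves G (Equiv.Perm (Fin 4)))
    (S : Sylow 2 G) (hS : (S : Subgroup G) ≠ ⊥) : ∃ A : Subgroup G, A ≠ ⊥ ∧ IsMulCommutative A ∧
      Cfsg.IsStronglyClosed A (S : Subgroup G) := by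
  set W := Wf (S : Subgroup G) with hW
  have hWne : W ≠ ⊥ := Wf_ne_bot _ hS S.isPGroup'
  have hWp : IsPGroup 2 W := S.isPGroup'.to_le (Wf_le _)
  have : Nontrivial W := (Subgroup.nontrivial_iff_ne_bot W).2 hWne
  refine ⟨(Subgroup.center W).map W.subtype, ?_, ?_, ?_, ?_⟩
  · intro h
    have h1 : Subgroup.center W = ⊥ :=
      (Subgroup.map_eq_bot_iff_of_injective _ W.subtype_injective).1 h
    have h2 : Nontrivial (Subgroup.center W) := hWp.center_nontrivial
    exact (Subgroup.nontrivial_iff_ne_bot _).1 h2 h1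
  · refine ⟨⟨?_⟩⟩
    rintro ⟨_, ⟨a, ha, rfl⟩⟩ ⟨_, ⟨b, hb, rfl⟩⟩
    apply Subtype.ext
    have := (Subgroup.mem_center_iff.1 ha b)
    exact (congrArg Subtype.val this).symm
  · exact (Subgroup.map_subtype_le _).trans (Wf_le _)
  · rintro _ ⟨a, ha, rfl⟩ g hg
    have haS : ((a : W) : G) ∈ (S : Subgroup G) := Wf_le _ a.2
    obtain ⟨m, hm, hm2⟩ := exists_conj h4 S (a : G) haS g hg
    rw [Subgroup.mem_normalizer_iff] at hm
    have hma : m * (a : G) * m⁻¹ ∈ W := (hm _).1 a.2
    refine ⟨⟨m * (a : G) * m⁻¹, hma⟩, ?_, hm2⟩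
    rw [SetLike.mem_coe, Subgroup.mem_center_iff]
    rintro ⟨w, hw⟩
    apply Subtype.ext
    have hw' : m⁻¹ * w * m ∈ W := by
      rw [hm]
      simpa [mul_assoc] using hw
    have h5 := congrArg Subtype.val (Subgroup.mem_center_iff.1 ha ⟨m⁻¹ * w * m, hw'⟩)
    simp only [Subgroup.coe_mul] at h5 ⊢
    calc w * (m * a * m⁻¹) = m * ((m⁻¹ * w * m) * a) * m⁻¹ := by group
      _ = m * (a * (m⁻¹ * w * m)) * m⁻¹ := by rw [h5]
      _ = m * a * m⁻¹ * w := by group

/-- A 2-element normalising but not centralising a 3-subgroup gives a real element of order three. -/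
theorem hasReal_of_act {G : Type*} [Group G] {Q : Subgroup G} (hQ : IsPGroup 3 Q) :
    ∀ (a : ℕ) (t : G), t ^ 2 ^ a = 1 → t ∈ normalizer (Q : Set G) → (∃ q ∈ Q, t * q ≠ q * t) →
      HasReal G := by
  intro a
  induction a with
  | zero =>
    rintro t ht - ⟨q, -, hq⟩
    rw [pow_zero, pow_one] at ht
    subst ht
    exact absurd (by simp) hq
  | succ a ih =>
    intro t ht htQ ⟨q, hq, hqt⟩
    by_cases h : ∃ q ∈ Q, (t * t) * q ≠ q * (t * t)
    · refine ih (t * t) ?_ (mul_mem htQ htQ) h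
      rw [← pow_two, ← pow_mul, ← pow_succ']
      exact ht
    · push Not at h
      -- `t²` centralises `Q`
      have hx : q⁻¹ * (t * q * t⁻¹) ∈ Q :=
        mul_mem (inv_mem hq) ((mem_normalizer_iff.mp htQ q).mp hq)
      obtain ⟨k, hk⟩ := hQ ⟨_, hx⟩
      refine of_pow (x := q⁻¹ * (t * q * t⁻¹)) (y := t) ?_ (k := k)
        (by simpa using congrArg Subtype.val hk) ?_
      · intro h1
        rw [inv_mul_eq_one, eq_mul_inv_iff_mul_eq] at h1
        exact hqt h1.symm
      · have h2 := h q hq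
        have h3 : t * (q⁻¹ * (t * q * t⁻¹)) * t⁻¹ = (t * q⁻¹ * t⁻¹) * ((t * t) * q * (t * t)⁻¹) := by
          group
        rw [h3, h2]
        group

/-- A group mapping onto a group `Y` with elements `s` of order three and `r` with `r s r⁻¹ = s⁻¹` has a
real element of order three, if `r² = 1`. -/
theorem hasReal_of_surj {K Y : Type*} [Group K] [Finite K] [Group Y] (φ : K →* Y)
    (hφ : Function.Surjective φ) {s r : Y} (hs : orderOf s = 3) (hr : r * r = 1)
    (hrs : r * s * r⁻¹ = s⁻¹) : HasReal K := by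
  have : Fact (Nat.Prime 3) := ⟨Nat.prime_three⟩
  -- `A = φ⁻¹(⟨s⟩)` and a Sylow 3-subgroup of it
  set A : Subgroup K := (zpowers s).comap φ with hA
  obtain ⟨Q, -, hQA, hQ, hQi⟩ := Cfsg.Agent.Lib.GoldschmidtFusion.exists_sylow_in (p := 3) (N := A)
    (D := ⊥) bot_le IsPGroup.of_bot
  obtain ⟨b, hb⟩ := hφ r
  have hbA : A.map (MulAut.conj b).toMonoidHom = A := by
    have h1 : A.map (MulAut.conj b).toMonoidHom ≤ A := by
      rintro _ ⟨x, hx, rfl⟩
      change b * x * b⁻¹ ∈ A
      rw [hA, mem_comap, map_mul, map_mul, map_inv, hb]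
      rw [SetLike.mem_coe, hA, mem_comap] at hx
      obtain ⟨k, hk⟩ := mem_zpowers_iff.mp hx
      rw [← hk, ← conj_zpow, hrs]
      exact zpow_mem (inv_mem (mem_zpowers s)) k
    refine Subgroup.eq_of_le_of_card_ge h1 ?_
    exact (Nat.card_congr (A.equivMapOfInjective _ (MulAut.conj b).injective).toEquiv).le
  -- Frattini
  obtain ⟨k, hkA, hk⟩ := Cfsg.Agent.LFourB.RelExt.frattini hQ hQA hQi hbA
  have hn : k * b ∈ normalizer (Q : Set K) := mem_normalizer_iff_map_conj_eq.mpr hk
  -- the action of `φ (k * b)` on `⟨s⟩`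
  have hks : φ k * s = s * φ k := by
    rw [hA, mem_comap] at hkA
    obtain ⟨j, hj⟩ := mem_zpowers_iff.mp hkA
    rw [← hj]
    exact ((Commute.refl s).zpow_left j).eq
  have hns : φ (k * b) * s * (φ (k * b))⁻¹ = s⁻¹ := by
    rw [map_mul, hb, mul_inv_rev]
    calc φ k * r * s * (r⁻¹ * (φ k)⁻¹) = φ k * (r * s * r⁻¹) * (φ k)⁻¹ := by group
      _ = φ k * s⁻¹ * (φ k)⁻¹ := by rw [hrs]
      _ = (φ k * s * (φ k)⁻¹)⁻¹ := by group
      _ = s⁻¹ := by rw [hks]; group
  have hn2 : φ (k * b) * φ (k * b) = 1 := by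
    rw [map_mul, hb]
    have h1 : r * φ k * r⁻¹ = (φ k)⁻¹ := by
      rw [hA, mem_comap] at hkA
      obtain ⟨j, hj⟩ := mem_zpowers_iff.mp hkA
      rw [← hj, ← conj_zpow, hrs, inv_zpow]
    calc φ k * r * (φ k * r) = φ k * (r * φ k * r⁻¹) * (r * r) := by group
      _ = 1 := by rw [h1, hr]; group
  -- `Q` maps onto `⟨s⟩`
  obtain ⟨q, hqQ, hqs⟩ : ∃ q ∈ Q, φ q = s := by
    have h1 : Q.map φ ≤ zpowers s := by
      rw [map_le_iff_le_comap]; exact hQA
    have h2 : Q.map φ ≠ ⊥ := by
      intro h3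
      apply hQi
      have h4 : Q ≤ φ.ker := (Subgroup.map_eq_bot_iff Q).mp h3
      have h5 : φ.ker ≤ A := by
        intro x hx
        rw [hA, mem_comap, (MonoidHom.mem_ker).mp hx]
        exact one_mem _
      have h6 : φ.ker.relIndex A = 3 := by
        rw [Subgroup.relIndex_ker, hA, Subgroup.map_comap_eq_self_of_surjective hφ, Nat.card_zpowers, hs]
      rw [← Subgroup.relIndex_mul_relIndex Q φ.ker A h4 h5, h6]
      exact dvd_mul_left _ _
    have h3 : Q.map φ = zpowers s := by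
      have h4 : Nat.card (Q.map φ) ∣ 3 := by
        have h5 := Subgroup.card_dvd_of_le h1
        rwa [Nat.card_zpowers, hs] at h5
      rcases (Nat.dvd_prime Nat.prime_three).mp h4 with h5 | h5
      · exact absurd (Subgroup.eq_bot_of_card_eq _ h5) h2
      · have hfz : Finite (zpowers s) := by
          apply Nat.finite_of_card_ne_zero
          rw [Nat.card_zpowers, hs]; norm_num
        exact Subgroup.eq_of_le_of_card_ge h1 (by rw [h5, Nat.card_zpowers, hs])
    have h4 : s ∈ Q.map φ := by rw [h3]; exact mem_zpowers s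
    exact h4
  -- the 2-part
  obtain ⟨a, m, hm, hnm⟩ := Nat.exists_eq_pow_mul_and_not_dvd (orderOf_pos (k * b)).ne' 2 (by norm_num)
  have hφm : φ ((k * b) ^ m) = φ (k * b) := by
    obtain ⟨j, hj⟩ : Odd m := by
      rw [← Nat.not_even_iff_odd, even_iff_two_dvd]; exact hm
    rw [map_pow, hj, pow_succ, pow_mul, pow_two, hn2, one_pow, one_mul]
  refine hasReal_of_act hQ a ((k * b) ^ m) ?_ (pow_mem hn m) ⟨q, hqQ, ?_⟩
  · rw [← pow_mul, mul_comm, ← hnm, pow_orderOf_eq_one]
  · intro h1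
    have h2 := congrArg φ h1
    rw [map_mul, map_mul, hφm, hqs] at h2
    have h3 : s = s⁻¹ := by
      rw [← hns, h2]; group
    have h4 : s ^ 2 = 1 := by
      rw [pow_two]
      nth_rewrite 2 [h3]
      group
    have h5 := orderOf_dvd_of_pow_eq_one h4
    rw [hs] at h5
    norm_num at h5

/-- A finite group involving `S₄` has a real element of order three. -/
theorem hasReal_of_involves {G : Type*} [Group G] [Finite G]
    (h : Involves G (Equiv.Perm (Fin 4))) : HasReal G := by
  obtain ⟨K, φ, hφ⟩ := h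
  refine (hasReal_of_surj (K := K) φ hφ (s := (Equiv.swap 0 1) * (Equiv.swap 1 2))
    (r := Equiv.swap 0 1) ?_ (by decide) (by decide)).map K.subtype K.subtype_injective
  rw [orderOf_eq_prime_iff]
  exact ⟨by decide, by decide⟩

end Cfsg.Agent.H502.SFourClosed
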